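import Groth.Agent.HomColim.Sections
import Groth.Agent.FinPresOn.Basic
import Mathlib.Algebra.Category.Grp.Colimits
import Mathlib.Topology.Sets.Opens

/-!
Sections of direct sums of modules on a ringed site over quasi-compact objects.
-/

set_option backward.isDefEq.respectTransparency false
set_option backward.isDefEq.respectTransparency.types false
set_option linter.style.haveILetI false
set_option autoImplicit false
set_option maxHeartbeats 1000000

universe u

namespace Groth.Agent.HomColim

open CategoryTheory Limits Opposite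
open Groth.Agent.PullFlat (Loc sect_ext)
open Groth.Agent.ModSiteFlat (rmap rmap_comp)

variable {C : Type u} [SmallCategory C] {J : GrothendieckTopology C} {O : Sheaf J CommRingCat.{u}} {ι : Type u}

/-- the comparison from the presheaf colimit, for any small diagram -/
lemma exists_colim_cmp' {Λ : Type u} [SmallCategory Λ] {D : Λ ⥤ ModSite.Mod O} (c : Cocone D) (hc : IsColimit c) :
    ∃ (c' : Cocone (D ⋙ ModSiteExt.toPM O)) (_ : IsColimit c') (θ : c'.pt ⟶ c.pt.val),
      (∀ j, c'.ι.app j ≫ θ = (c.ι.app j).val) ∧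
        Presheaf.IsLocallySurjective J ((PresheafOfModules.toPresheaf _).map θ) := by
  let c' := colimit.cocone (D ⋙ ModSiteExt.toPM O)
  let adj := PresheafOfModules.sheafificationAdjunction.{u} (R := ModSite.ringSh O) (𝟙 (ModSite.ringSh O).obj)
  haveI : PreservesColimitsOfSize.{u, u} (ModSiteExt.Sh O) := adj.leftAdjoint_preservesColimits
  let w : (D ⋙ ModSiteExt.toPM O) ⋙ ModSiteExt.Sh O ≅ D :=
    NatIso.ofComponents (fun j => @asIso _ _ _ _ (adj.counit.app (D.obj j)) inferInstance)
      fun f => adj.counit.naturality (D.map f)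
  let e : (ModSiteExt.Sh O).obj c'.pt ≅ c.pt :=
    (isColimitOfPreserves (ModSiteExt.Sh O) (colimit.isColimit _)).coconePointsIsoOfNatIso hc w
  refine ⟨c', colimit.isColimit _, ModSiteTensor.η O c'.pt ≫ (ModSiteExt.toPM O).map e.hom, fun j => ?_, ?_⟩
  · have h1 : (ModSiteExt.Sh O).map (c'.ι.app j) ≫ e.hom = adj.counit.app (D.obj j) ≫ c.ι.app j :=
      IsColimit.comp_coconePointsIsoOfNatIso_hom (isColimitOfPreserves (ModSiteExt.Sh O) (colimit.isColimit _)) hc w j
    have h2 : c'.ι.app j ≫ ModSiteTensor.η O c'.pt =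
        ModSiteTensor.η O ((ModSiteExt.toPM O).obj (D.obj j)) ≫ (ModSiteExt.toPM O).map ((ModSiteExt.Sh O).map (c'.ι.app j)) :=
      adj.unit.naturality (c'.ι.app j)
    rw [← Category.assoc, h2, Category.assoc, ← Functor.map_comp, h1, Functor.map_comp, ← Category.assoc]
    have h3 : ModSiteTensor.η O ((ModSiteExt.toPM O).obj (D.obj j)) ≫ (ModSiteExt.toPM O).map (adj.counit.app (D.obj j)) = 𝟙 _ :=
      adj.right_triangle_components (D.obj j)
    exact (congrArg (· ≫ _) h3).trans (Category.id_comp _)
  · haveI := ModSiteTensor.unit_locallySurjective O c'.pt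
    rw [Functor.map_comp]
    infer_instance

variable {K : Discrete ι ⥤ ModSite.Mod O} (c : Cocone K)

/-- sections of a direct sum are locally finite sums -/
theorem loc_sum_coprod (hc : IsColimit c) {U : C} (s : ModSite.sect c.pt U) :
    Loc J U fun V g => ∃ (T : Finset (Discrete ι)) (t : ∀ i, ModSite.sect (K.obj i) V),
      ∑ i ∈ T, (c.ι.app i).val.app (op V) (t i) = rmap c.pt g s := by
  classical
  obtain ⟨c', hc', θ, hθ, h⟩ := exists_colim_cmp' c hc
  refine (Loc.of_mem (Presheaf.imageSieve_mem J ((PresheafOfModules.toPresheaf _).map θ) s)).mono ?_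
  rintro V g ⟨x, hx⟩
  have hcM := isColimitOfPreserves (PresheafOfModules.evaluation (ModSite.ringSh O).obj (op V)) hc'
  let N : Submodule ((ModSite.ringSh O).obj.obj (op V)) (c'.pt.obj (op V)) :=
    ⨆ i, LinearMap.range ((c'.ι.app i).app (op V)).hom
  have hN : N = ⊤ := by
    have : ModuleCat.ofHom N.mkQ = 0 := hcM.hom_ext fun i => ModuleCat.hom_ext (LinearMap.ext fun y =>
      (Submodule.Quotient.mk_eq_zero N).2 (Submodule.mem_iSup_of_mem i ⟨y, rfl⟩))
    rw [← Submodule.ker_mkQ N, show N.mkQ = 0 from congrArg ModuleCat.Hom.hom this, LinearMap.ker_zero]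
  obtain ⟨f, hf, hfx⟩ := (Submodule.mem_iSup_iff_exists_finsupp _ (show c'.pt.obj (op V) from x)).1
    (show (show c'.pt.obj (op V) from x) ∈ N from hN ▸ Submodule.mem_top)
  choose t ht using hf
  refine ⟨f.support, t, Eq.trans ?_ hx⟩
  rw [← hfx]
  refine Eq.trans ?_ (map_sum (θ.app (op V)).hom f f.support).symm
  refine Finset.sum_congr rfl fun i _ => ?_
  rw [← ht i, ← hθ i]
  rfl

/-- the projection to a summand -/
lemma exists_proj (hc : IsColimit c) (i : Discrete ι) :
    ∃ π : c.pt ⟶ K.obj i, c.ι.app i ≫ π = 𝟙 _ ∧ ∀ j, j ≠ i → c.ι.app j ≫ π = 0 := by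
  classical
  let d : Cocone K :=
    { pt := K.obj i
      ι := Discrete.natTrans fun j => if h : j = i then eqToHom (congrArg K.obj h) else 0 }
  refine ⟨hc.desc d, (hc.fac d i).trans ?_, fun j hj => (hc.fac d j).trans ?_⟩
  · simp [d]
  · simp [d, hj]

/-- objects over which covers have finite refinements -/
def FinRefines (W : C) : Prop :=
  ∀ {P : ∀ ⦃V : C⦄, (V ⟶ W) → Prop}, Loc J W P → ∃ (m : ℕ) (V : Fin m → C) (g : ∀ k, V k ⟶ W),
    Sieve.ofArrows V g ∈ J W ∧ ∀ k, P (g k)

lemma finRefines_of_isQcObject {W : C}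
    (hW : CohCx.IsQcObject ((presheafToSheaf J (Type u)).obj (yoneda.obj W))) : FinRefines (J := J) W := by
  intro P hP
  obtain ⟨m, V, g, h1, -, h2⟩ := FinPresOn.exists_finite_refine (B := Set.univ) (fun X =>
    ⟨PUnit, fun _ => X, fun _ => 𝟙 X, by
      refine J.superset_covering ?_ (J.top_mem X)
      intro Y f _
      exact (Sieve.mem_ofArrows_iff ..).2 ⟨PUnit.unit, f, (Category.comp_id f).symm⟩,
      fun _ => trivial⟩) hW hP
  exact ⟨m, V, g, h1, h2⟩

/-- sections over such an object are finite sums of their components -/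
theorem exists_eq_sum_proj {W : C} (hW : FinRefines (J := J) W) (hc : IsColimit c)
    (π : ∀ i, c.pt ⟶ K.obj i) (hπ : ∀ i, c.ι.app i ≫ π i = 𝟙 _) (hπ' : ∀ i j, j ≠ i → c.ι.app j ≫ π i = 0)
    (s : ModSite.sect c.pt W) :
    ∃ T : Finset (Discrete ι), (∀ i, i ∉ T → (π i).val.app (op W) s = 0) ∧
      s = ∑ i ∈ T, (c.ι.app i).val.app (op W) ((π i).val.app (op W) s) := by
  classical
  obtain ⟨m, V, g, hg, hP⟩ := hW (loc_sum_coprod c hc s)
  choose T t ht using hP
  have nat : ∀ {M N : ModSite.Mod O} (φ : M ⟶ N) {X Y : C} (a : X ⟶ Y) (x : ModSite.sect M Y),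
      φ.val.app (op X) (rmap M a x) = rmap N a (φ.val.app (op Y) x) :=
    fun φ _ _ a x => PresheafOfModules.naturality_apply φ.val a.op x
  have hcomp : ∀ (k : Fin m) (i : Discrete ι),
      rmap (K.obj i) (g k) ((π i).val.app (op W) s) = if i ∈ T k then t k i else 0 := by
    intro k i
    rw [← nat, ← ht k, map_sum]
    have hij : ∀ j, (π i).val.app (op (V k)) ((c.ι.app j).val.app (op (V k)) (t k j)) =
        (c.ι.app j ≫ π i).val.app (op (V k)) (t k j) := fun _ => rfl
    split_ifs with hi
    · rw [Finset.sum_eq_single i (fun j _ hj => by rw [hij, hπ' i j hj]; rfl) (fun h => absurd hi h), hij, hπ i]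
      rfl
    · refine Finset.sum_eq_zero fun j hj => ?_
      rw [hij, hπ' i j (fun h => hi (h ▸ hj))]
      rfl
  refine ⟨Finset.univ.biUnion T, fun i hi => sect_ext ⟨_, hg, fun X x hx => ?_⟩, sect_ext ⟨_, hg, fun X x hx => ?_⟩⟩
  · obtain ⟨k, a, rfl⟩ := (Sieve.mem_ofArrows_iff ..).mp hx
    rw [rmap_comp, rmap_comp, hcomp k i, if_neg (fun h => hi (Finset.mem_biUnion.2 ⟨k, Finset.mem_univ k, h⟩))]
    simp
  · obtain ⟨k, a, rfl⟩ := (Sieve.mem_ofArrows_iff ..).mp hx
    rw [rmap_comp, rmap_comp]
    refine congrArg _ ?_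
    rw [← ht k, map_sum]
    symm
    refine (Finset.sum_congr rfl fun i _ => ((nat (c.ι.app i) (g k) _).symm.trans (congrArg _ (hcomp k i)))).trans ?_
    rw [← Finset.sum_subset (Finset.subset_biUnion_of_mem T (Finset.mem_univ k))
      (fun i _ hi => by rw [if_neg hi]; exact map_zero _)]
    exact Finset.sum_congr rfl fun i hi => by rw [if_pos hi]

variable (ι)

/-- sections over such an object commute with direct sums -/
theorem preservesCoproducts_sections {W : C} (hW : FinRefines (J := J) W) :
    PreservesColimitsOfShape (Discrete ι)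
      (SheafOfModules.toSheaf (ModSite.ringSh O) ⋙ (sheafSections J AddCommGrpCat.{u}).obj (op W)) where
  preservesColimit {K} := ⟨fun {c} hc => ⟨by
    let G := SheafOfModules.toSheaf (ModSite.ringSh O) ⋙ (sheafSections J AddCommGrpCat.{u}).obj (op W)
    choose π hπ hπ' using exists_proj c hc
    let v : ∀ i, G.obj c.pt → G.obj (K.obj i) := fun i s => (π i).val.app (op W) s
    have hsum := exists_eq_sum_proj c hW hc π hπ hπ'
    choose T hT hT' using hsum
    let term : ∀ (d : Cocone (K ⋙ G)) (i : Discrete ι), (G.obj c.pt) →+ d.pt := fun d i =>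
      (d.ι.app i).hom.comp (G.map (π i)).hom
    have hsupp : ∀ d s, Function.support (fun i => term d i s) ⊆ T s := fun d s i hi => by
      by_contra h
      refine hi ?_
      exact (congrArg (d.ι.app i).hom (hT s i h)).trans (map_zero _)
    refine
      { desc := fun d => AddCommGrpCat.ofHom (AddMonoidHom.mk' (fun s => ∑ᶠ i, term d i s) fun s s' => ?_)
        fac := fun d j => ?_
        uniq := fun d m hm => ?_ }
    · simp only [map_add]
      exact finsum_add_distrib ((T s).finite_toSet.subset (hsupp d s)) ((T s').finite_toSet.subset (hsupp d s'))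
    · refine AddCommGrpCat.ext fun x => ?_
      refine (finsum_eq_single _ j fun i hi => ?_).trans ?_
      · refine (congrArg (d.ι.app i).hom (?_ : (c.ι.app j ≫ π i).val.app (op W) x = 0)).trans (map_zero _)
        rw [hπ' i j (Ne.symm hi)]
        rfl
      · show (d.ι.app j).hom ((G.map (π j)).hom ((G.map (c.ι.app j)).hom x)) = (d.ι.app j).hom x
        refine congrArg _ ?_
        show ((c.ι.app j) ≫ π j).val.app (op W) x = x
        rw [hπ j]
        rfl
    · refine AddCommGrpCat.ext fun s => ?_
      refine Eq.trans ?_ (finsum_eq_finsetSum_of_support_subset _ (hsupp d s)).symm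
      conv_lhs => rw [show s = ∑ i ∈ T s, (G.map (c.ι.app i)).hom ((G.map (π i)).hom s) from hT' s]
      refine (map_sum m.hom _ _).trans (Finset.sum_congr rfl fun i _ => ?_)
      exact ConcreteCategory.congr_hom (hm i) _⟩⟩

/-- compact opens have finite refinements -/
theorem finRefines_of_isCompact {X : TopCat.{u}} {U : TopologicalSpace.Opens X} (hU : IsCompact (U : Set X)) :
    FinRefines (J := Opens.grothendieckTopology X) U := by
  intro P hP
  obtain ⟨R, hR, hR'⟩ := hP
  choose V g hg hxV using fun x : (U : Set X) => hR x.1 x.2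
  obtain ⟨t, ht⟩ := hU.elim_finite_subcover (fun x => (V x : Set X)) (fun x => (V x).2)
    fun x hx => Set.mem_iUnion.2 ⟨⟨x, hx⟩, hxV _⟩
  refine ⟨t.card, fun k => V (t.equivFin.symm k).1, fun k => g _, fun x hx => ?_, fun k => hR' _ (hg _)⟩
  obtain ⟨i, hi, hxi⟩ := Set.mem_iUnion₂.1 (ht hx)
  refine ⟨V i, g i, (Sieve.mem_ofArrows_iff ..).2 ⟨t.equivFin ⟨i, hi⟩, eqToHom (by simp), Subsingleton.elim _ _⟩, hxi⟩

end Groth.Agent.HomColim

namespace Groth.Agent.HomColim

open CategoryTheory Limits Opposite

variable {C : Type u} [SmallCategory C] {J : GrothendieckTopology C} {O : Sheaf J CommRingCat.{u}}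

/-- maps out of `freeOn` are sections -/
noncomputable def coyonedaFreeIso (U : C) :
    preadditiveCoyoneda.obj (op (ModSite.freeOn O U)) ≅
      SheafOfModules.toSheaf (ModSite.ringSh O) ⋙ (sheafSections J AddCommGrpCat.{u}).obj (op U) :=
  NatIso.ofComponents
    (fun M => AddEquiv.toAddCommGrpIso
      ({ toFun := FinPresOn.val
         invFun := FinPresOn.ofSec
         left_inv := FinPresOn.ofSec_val
         right_inv := FinPresOn.val_ofSec
         map_add' := fun φ ψ => by
          rw [← Category.id_comp (φ + ψ), ← Category.id_comp φ, ← Category.id_comp ψ]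
          simp only [FinPresOn.val_comp, Category.id_comp]
          rfl } : (ModSite.freeOn O U ⟶ M) ≃+ _))
    fun {M N} g => AddCommGrpCat.ext fun φ => FinPresOn.val_comp φ g

theorem preservesCoproducts_coyoneda {U : C} (hU : FinRefines (J := J) U) (ι : Type u) :
    PreservesColimitsOfShape (Discrete ι) (preadditiveCoyoneda.obj (op (ModSite.freeOn O U))) :=
  haveI := preservesCoproducts_sections (O := O) ι hU
  preservesColimitsOfShape_of_natIso (coyonedaFreeIso U).symm

end Groth.Agent.HomColim
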