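import Groth.Agent.PullFlat.Tensor
import Groth.Agent.ModSiteFlat.PushColim

/-!
Isomorphisms of modules on a ringed site are detected on a cover.
-/

set_option backward.isDefEq.respectTransparency false
set_option backward.isDefEq.respectTransparency.types false
set_option linter.style.haveILetI false
set_option autoImplicit false

universe u

namespace Groth.Agent.HomColim

open CategoryTheory Limits Opposite
open Groth.Agent.PullFlat (sect_ext sect_glue Loc)

variable {C : Type u} [SmallCategory C] {J : GrothendieckTopology C} {O : Sheaf J CommRingCat.{u}}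

lemma bij_of_restr_isIso {M N : ModSite.Mod O} (φ : M ⟶ N) {U W : C} (g : W ⟶ U)
    (h : IsIso ((ModSite.restr O U).map φ)) : Function.Bijective (φ.val.app (op W)) := by
  haveI := h
  haveI : IsIso ((SheafOfModules.evaluation (ModSite.ringSh (O.over U)) (op (Over.mk g))).map ((ModSite.restr O U).map φ)) :=
    inferInstance
  exact ConcreteCategory.bijective_of_isIso ((SheafOfModules.evaluation (ModSite.ringSh (O.over U)) (op (Over.mk g))).map
    ((ModSite.restr O U).map φ))

/-- a map which is an isomorphism on a cover is an isomorphism -/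
theorem isIso_of_coversTop {M N : ModSite.Mod O} (φ : M ⟶ N) {ι : Type u} (X : ι → C) (hX : J.CoversTop X)
    (h : ∀ i, IsIso ((ModSite.restr O (X i)).map φ)) : IsIso φ := by
  have hb : ∀ U : C, Function.Bijective (φ.val.app (op U)) := by
    intro U
    have key : ∀ ⦃W : C⦄ (g : W ⟶ U), Sieve.ofObjects X U g → Function.Bijective (φ.val.app (op W)) := by
      intro W g hg
      obtain ⟨i, ⟨a⟩⟩ := (Sieve.mem_ofObjects_iff ..).mp hg
      exact bij_of_restr_isIso φ a (h i)
    have nat : ∀ {W W' : C} (g : W' ⟶ W) (s : ModSite.sect M W),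
        φ.val.app (op W') (ModSiteFlat.rmap M g s) = ModSiteFlat.rmap N g (φ.val.app (op W) s) :=
      fun g s => PresheafOfModules.naturality_apply φ.val g.op s
    constructor
    · intro s t hst
      refine sect_ext ⟨_, hX U, fun W g hg => (key g hg).1 ?_⟩
      rw [nat, nat, hst]
    · intro t
      choose x hx using fun W (g : W ⟶ U) hg => (key g hg).2 (ModSiteFlat.rmap N g t)
      obtain ⟨s, hs⟩ := sect_glue (G := M) (hX U) x fun U₁ U₂ g hg u =>
        (key (u ≫ g) ((Sieve.ofObjects X U).downward_closed hg u)).1 (by rw [nat, hx, hx, ModSiteFlat.rmap_comp])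
      refine ⟨s, sect_ext ⟨_, hX U, fun W g hg => ?_⟩⟩
      exact (nat g s).symm.trans ((congrArg _ (hs g hg)).trans (hx W g hg))
  haveI : ∀ U, IsIso ((SheafOfModules.forget _).map φ |>.app U) := fun U =>
    (ConcreteCategory.isIso_iff_bijective _).2 (hb U.unop)
  haveI : IsIso ((PresheafOfModules.toPresheaf _).map ((SheafOfModules.forget _).map φ)) :=
    @NatIso.isIso_of_isIso_app _ _ _ _ _ _ _ fun U =>
      inferInstanceAs (IsIso ((forget₂ _ AddCommGrpCat).map (((SheafOfModules.forget _).map φ).app U)))
  haveI : IsIso ((SheafOfModules.forget _).map φ) :=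
    isIso_of_reflects_iso _ (PresheafOfModules.toPresheaf _)
  exact isIso_of_reflects_iso φ (SheafOfModules.forget _)

variable {Λ : Type u} [SmallCategory Λ] {A : Type (u + 1)} [Category.{u} A]

/-- preservation of a colimit can be checked on a cover -/
theorem preservesColimit_of_coversTop (R : A ⥤ ModSite.Mod O) (D : Λ ⥤ A) [HasColimit D]
    {ι : Type u} (X : ι → C) (hX : J.CoversTop X)
    (h : ∀ i, PreservesColimit D (R ⋙ ModSite.restr O (X i))) : PreservesColimit D R := by
  haveI : IsIso (colimit.post D R) := by
    refine isIso_of_coversTop _ X hX fun i => ?_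
    haveI := h i
    haveI : PreservesColimitsOfSize.{u, u} (ModSite.restr O (X i)) :=
      ModSiteFlat.preservesColimits_pushforward (F := Over.forget (X i)) _
    haveI : IsIso (colimit.post D (R ⋙ ModSite.restr O (X i))) := inferInstance
    haveI : IsIso (colimit.post (D ⋙ R) (ModSite.restr O (X i))) := inferInstance
    have e := colimit.post_post D R (ModSite.restr O (X i))
    exact IsIso.of_isIso_fac_left (h := colimit.post D (R ⋙ ModSite.restr O (X i))) e
  exact preservesColimit_of_isIso_post (F := D) (G := R)

end Groth.Agent.HomColim
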