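import Groth.Agent.HomColim.Generic
import Groth.Agent.HomColim.LocalIso
import Groth.Agent.ModSiteExt.Consequences
import Groth.Agent.HDU.ModData
import Groth.Agent.InvSite.Basic
import Mathlib.Algebra.Category.ModuleCat.Sheaf.Quasicoherent

/-!
The internal hom out of a finitely presented module keeps filtered colimits.
-/

set_option backward.isDefEq.respectTransparency false
set_option backward.isDefEq.respectTransparency.types false
set_option linter.style.haveILetI false
set_option autoImplicit false

universe u

namespace Groth.Agent.HomColim

open CategoryTheory Limits Opposite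

variable {C : Type u} [SmallCategory C] {J : GrothendieckTopology C} {O : Sheaf J CommRingCat.{u}}

/-- free modules -/
noncomputable abbrev fr (O : Sheaf J CommRingCat.{u}) (B : Type u) : ModSite.Mod O :=
  SheafOfModules.free (R := ModSite.ringSh O) B

variable (O) in
/-- tensoring with a free module is a sum of copies -/
noncomputable def sumIso (B : Type u) :
    (Functor.const (Discrete B) : ModSite.Mod O ⥤ _) ⋙ colim ≅ (ModSite.tensorBi O).flip.obj (fr O B) :=
  haveI : ∀ P : ModSite.Mod O, PreservesColimitsOfSize.{u, u} ((ModSite.tensorBi O).obj P) :=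
    fun P => ModSiteTensor.preservesColimits_tensorBi_obj O P
  let u' : ∀ P : ModSite.Mod O, ((Functor.const (Discrete B)).obj P) ≅
      Discrete.functor (fun _ : B => ModSite.unit O) ⋙ (ModSite.tensorBi O).obj P := fun P =>
    Discrete.natIso fun _ => ((HDU.tensorUnitIso O).app P).symm
  NatIso.ofComponents
    (fun P => HasColimit.isoOfNatIso (u' P) ≪≫
      colimit.isoColimitCocone ⟨_, isColimitOfPreserves ((ModSite.tensorBi O).obj P)
        (SheafOfModules.isColimitFreeCofan (R := ModSite.ringSh O) B)⟩)
    fun {P Q} g => by
      refine colimit.hom_ext fun b => ?_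
      simp only [Functor.comp_map, Iso.trans_hom, colim_map, ι_colimMap_assoc,
        HasColimit.isoOfNatIso_ι_hom_assoc, colimit.isoColimitCocone_ι_hom, colimit.isoColimitCocone_ι_hom_assoc,
        Category.assoc]
      have h := (HDU.tensorUnitIso O).inv.naturality g
      simp only [Functor.id_map] at h
      change g ≫ ((HDU.tensorUnitIso O).inv.app Q) ≫ _ = ((HDU.tensorUnitIso O).inv.app P) ≫ _
      rw [reassoc_of% h]
      exact congrArg _ (((ModSite.tensorBi O).map g).naturality _).symm

variable [∀ F : ModSite.Mod O, ModSite.HasSheafHom F]

theorem preservesColimit_free {Λ : Type u} [SmallCategory Λ] [IsFiltered Λ] (D : Λ ⥤ ModSite.Mod O)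
    (B : Type u) [Finite B] : PreservesColimit D (ModSite.sheafHom (fr O B)) :=
  preservesColimit_of_sum B (ModSite.sheafHomAdj (fr O B)) (sumIso O B) D

theorem preservesColimit_presentation {Λ : Type u} [SmallCategory Λ] [IsFiltered Λ] (D : Λ ⥤ ModSite.Mod O)
    {M : ModSite.Mod O} (P : SheafOfModules.Presentation (R := ModSite.ringSh O) M) [P.IsFinite] :
    PreservesColimit D (ModSite.sheafHom M) := by
  haveI : IsGrothendieckAbelian.{u} (ModSite.Mod O) := KFlat.isGrothendieck O
  haveI := P.generators
  haveI : Finite P.generators.I := SheafOfModules.GeneratingSections.IsFiniteType.finite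
  haveI : Finite P.relations.I := SheafOfModules.GeneratingSections.IsFiniteType.finite
  haveI := preservesColimit_free D P.generators.I
  haveI := preservesColimit_free D P.relations.I
  let r : fr O P.relations.I ⟶ fr O P.generators.I := P.relations.π ≫ kernel.ι P.generators.π
  have w : r ≫ P.generators.π = 0 := by simp [r]
  have hflip : ∀ X : ModSite.Mod O, PreservesFiniteColimits ((ModSite.tensorBi O).flip.obj X) :=
    KFlat.exact_flip_of_rightExact (KFlat.braid O) (KFlat.preservesFiniteColimits_left O)
  haveI : ∀ X : ModSite.Mod O, ((ModSite.tensorBi O).obj X).Additive := fun X => by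
    haveI := KFlat.preservesFiniteColimits_left O X
    haveI : PreservesBinaryBiproducts ((ModSite.tensorBi O).obj X) := preservesBinaryBiproducts_of_preservesBinaryCoproducts _
    exact Functor.additive_of_preservesBinaryBiproducts _
  haveI : ((ModSite.tensorBi O).flip.obj (fr O P.relations.I)).PreservesZeroMorphisms := by
    haveI := hflip (fr O P.relations.I)
    haveI : PreservesBinaryBiproducts ((ModSite.tensorBi O).flip.obj (fr O P.relations.I)) :=
      preservesBinaryBiproducts_of_preservesBinaryCoproducts _
    haveI := Functor.additive_of_preservesBinaryBiproducts ((ModSite.tensorBi O).flip.obj (fr O P.relations.I))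
    infer_instance
  have w' : ∀ X, ((ModSite.tensorBi O).flip.map r).app X ≫ ((ModSite.tensorBi O).flip.map P.generators.π).app X = 0 :=
    fun X => ((((ModSite.tensorBi O).obj X).map_comp r P.generators.π).symm.trans (congrArg _ w)).trans (Functor.map_zero _ _ _)
  have hc : ∀ X, IsColimit (CokernelCofork.ofπ (((ModSite.tensorBi O).flip.map P.generators.π).app X) (w' X)) := fun X => by
    haveI := KFlat.preservesFiniteColimits_left O X
    exact CokernelCofork.mapIsColimit (CokernelCofork.ofπ P.generators.π w) P.isColimit ((ModSite.tensorBi O).obj X)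
  exact preservesColimit_of_cokernel (ModSite.sheafHomAdj (fr O P.relations.I)) (ModSite.sheafHomAdj (fr O P.generators.I))
    (ModSite.sheafHomAdj M) ((ModSite.tensorBi O).flip.map r) ((ModSite.tensorBi O).flip.map P.generators.π) w' hc D

end Groth.Agent.HomColim
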