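import Groth.Agent.HomColim.QC
import Groth.Agent.HomColim.Main
import Mathlib.Topology.Sheaves.Sheaf
import Mathlib.CategoryTheory.Sites.LocallySurjective
import Mathlib.CategoryTheory.Limits.Types.Products

/-!
Maps out of a finitely presented module commute with filtered colimits.
-/

set_option backward.isDefEq.respectTransparency false
set_option backward.isDefEq.respectTransparency.types false
set_option linter.style.haveILetI false
set_option autoImplicit false
set_option maxHeartbeats 1000000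

universe u

namespace Groth.Agent.HomColim

open CategoryTheory Limits Opposite
open Groth.Agent.PullFlat (Loc sect_ext)
open Groth.Agent.ModSiteFlat (rmap)

variable {C : Type u} [SmallCategory C] {J : GrothendieckTopology C} {O : Sheaf J CommRingCat.{u}}
  {Λ : Type u} [SmallCategory Λ] [IsFiltered Λ]

/-- maps out of the unit commute with filtered colimits -/
theorem preservesColimit_unit (hQ : QCRefines J) (D : Λ ⥤ ModSite.Mod O) :
    PreservesColimit D (coyoneda.obj (op (ModSite.unit O))) := by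
  refine ⟨fun {c} hc => ⟨Types.FilteredColimit.isColimitOf' _ _ (fun φ => ?_) fun j α β h => ?_⟩⟩
  · let σ : ∀ U : C, ModSite.sect c.pt U := fun U => ((SheafOfModules.unitHomEquiv (R := ModSite.ringSh O) c.pt) φ).val (op U)
    obtain ⟨k, τ, hτ, hτc⟩ := global_surj c σ hQ hc
      (fun {U V} g => ((SheafOfModules.unitHomEquiv (R := ModSite.ringSh O) c.pt) φ).property g.op)
    refine ⟨k, (SheafOfModules.unitHomEquiv (R := ModSite.ringSh O) (D.obj k)).symm ⟨fun U => τ U.unop, fun {U V} g => hτ g.unop⟩,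
      (SheafOfModules.unitHomEquiv (R := ModSite.ringSh O) c.pt).injective ?_⟩
    refine Eq.trans ?_ (SheafOfModules.unitHomEquiv_comp_apply _ (c.ι.app k)).symm
    rw [Equiv.apply_symm_apply]
    exact Subtype.ext (funext fun U => (hτc U.unop).symm)
  · let eq' := SheafOfModules.unitHomEquiv (R := ModSite.ringSh O) (D.obj j)
    obtain ⟨k, a, ha⟩ := global_inj hQ c hc (fun U => (eq' α).val (op U)) (fun U => (eq' β).val (op U))
      (fun {U V} g => (eq' α).property g.op) (fun {U V} g => (eq' β).property g.op) fun U => by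
        have h' := congrArg (fun ψ => ((SheafOfModules.unitHomEquiv (R := ModSite.ringSh O) c.pt) ψ).val (op U)) h
        exact h'
    refine ⟨k, a, (SheafOfModules.unitHomEquiv (R := ModSite.ringSh O) (D.obj k)).injective (Subtype.ext (funext fun U => ?_))⟩
    exact ha U.unop

/-- maps out of a finitely presented module commute with filtered colimits -/
theorem preservesColimit_hom (hQ : QCRefines J) (F : ModSite.Mod O)
    (hF : ∀ [ModSite.HasSheafHom F] (D : Λ ⥤ ModSite.Mod O), PreservesColimit D (ModSite.sheafHom F))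
    (D : Λ ⥤ ModSite.Mod O) : PreservesColimit D (coyoneda.obj (op F)) := by
  haveI := ModSiteTensor.hasSheafHom (O := O) F
  haveI := hF D
  haveI := preservesColimit_unit hQ (D ⋙ ModSite.sheafHom F)
  let i : ((ModSite.tensorBi O).flip.obj F).obj (ModSite.unit O) ≅ F := ModSiteExt.unitTensorIso O F
  let e : ModSite.sheafHom F ⋙ coyoneda.obj (op (ModSite.unit O)) ≅ coyoneda.obj (op F) :=
    NatIso.ofComponents
      (fun G => (((ModSite.sheafHomAdj F).homEquiv (ModSite.unit O) G).symm.trans i.homFromEquiv).toIso)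
      fun {G G'} g => by
        ext (x : ModSite.unit O ⟶ (ModSite.sheafHom F).obj G)
        change i.inv ≫ ((ModSite.sheafHomAdj F).homEquiv _ G').symm (x ≫ (ModSite.sheafHom F).map g) =
          (i.inv ≫ ((ModSite.sheafHomAdj F).homEquiv _ G).symm x) ≫ g
        rw [Adjunction.homEquiv_naturality_right_symm, Category.assoc]
  exact preservesColimit_of_natIso D e

/-- a finitely presented module's internal hom keeps filtered colimits -/
theorem preservesColimit_sheafHom (F : ModSite.Mod O) [ModSite.HasSheafHom F]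
    (q : SheafOfModules.QuasicoherentData.{u} (R := ModSite.ringSh O) F) (hq : q.IsFinitePresentation)
    (D : Λ ⥤ ModSite.Mod O) : PreservesColimit D (ModSite.sheafHom F) := by
  haveI : IsGrothendieckAbelian.{u} (ModSite.Mod O) := KFlat.isGrothendieck O
  refine preservesColimit_of_coversTop (ModSite.sheafHom F) D q.X q.coversTop fun i => ?_
  haveI : ∀ G : ModSite.Mod (O.over (q.X i)), ModSite.HasSheafHom G := fun G => ModSiteTensor.hasSheafHom G
  have hfin := hq.isFinite_presentation i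
  haveI : IsGrothendieckAbelian.{u} (ModSite.Mod (O.over (q.X i))) := KFlat.isGrothendieck (O.over (q.X i))
  obtain ⟨e⟩ := ModSiteExt.nonempty_restrSheafHomIso O (q.X i) F
  haveI : PreservesColimitsOfSize.{u, u} (ModSite.restr O (q.X i)) :=
    ModSiteFlat.preservesColimits_pushforward (F := Over.forget (q.X i)) _
  haveI := @preservesColimit_presentation _ _ _ _ inferInstance _ _ _ (D ⋙ ModSite.restr O (q.X i))
    ((ModSite.restr O (q.X i)).obj F) (q.presentation i) hfin
  exact preservesColimit_of_natIso D e.symm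

/-- the refinement property from quasi-compact objects with quasi-compact squares -/
theorem qcRefines_of_objects (S : Set (Sheaf J (Type u)))
    (hSa : ∀ F : Sheaf J (Type u), Epi (terminal.from F) → ∃ K ∈ S, Epi (terminal.from K) ∧ Nonempty (K ⟶ F))
    (hSb : ∀ K ∈ S, CohCx.IsQcObject (K ⨯ K)) : QCRefines J := by
  let one : Sheaf J (Type u) := ⟨(Functor.const Cᵒᵖ).obj PUnit, Presheaf.isSheaf_of_isTerminal J Types.isTerminalPUnit⟩
  let one' : IsTerminal one := IsTerminal.ofUniqueHom
    (fun G => ⟨{ app := fun _ => ↾fun _ => PUnit.unit }⟩)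
    fun G m => Sheaf.hom_ext (NatTrans.ext (funext fun _ => ConcreteCategory.hom_ext _ _ fun _ => rfl))
  have epi_iff : ∀ G : Sheaf J (Type u), Epi (terminal.from G) ↔ ∀ U : C, Loc J U fun V _ => Nonempty (G.obj.obj (op V)) := by
    intro G
    have e : Epi (terminal.from G) ↔ Epi (one'.from G) := by
      rw [show one'.from G = terminal.from G ≫ (terminalIsTerminal.uniqueUpToIso one').hom from one'.hom_ext _ _]
      refine ⟨fun _ => inferInstance, fun h => ?_⟩
      have : Epi ((terminal.from G ≫ (terminalIsTerminal.uniqueUpToIso one').hom) ≫ (terminalIsTerminal.uniqueUpToIso one').inv) :=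
        inferInstance
      simp only [Category.assoc, Iso.hom_inv_id, Category.comp_id] at this
      exact this
    rw [e, ← Sheaf.isLocallySurjective_iff_epi]
    constructor
    · intro h U
      refine (Loc.of_mem (Presheaf.imageSieve_mem J (one'.from G).hom (U := op U) PUnit.unit)).mono ?_
      rintro V g ⟨x, -⟩
      exact ⟨x⟩
    · intro h
      refine ⟨fun {U} s => ?_⟩
      obtain ⟨R, hR, hR'⟩ := h U
      exact J.superset_covering (fun V g hg => ⟨(hR' g hg).some, rfl⟩) hR
  intro F hF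
  obtain ⟨K, hKS, hKe, ⟨u⟩⟩ := hSa F ((epi_iff F).2 hF)
  refine ⟨K.obj, (epi_iff K).1 hKe, ?_, ⟨u.hom⟩⟩
  intro I P hmono hres hloc
  let E : ∀ U : C, Sheaf J (Type u) ⥤ Type u := fun U => sheafToPresheaf J (Type u) ⋙ (evaluation _ _).obj (op U)
  let fst' : ∀ {U : C}, (K ⨯ K).obj.obj (op U) → K.obj.obj (op U) := fun {U} p => (prod.fst : K ⨯ K ⟶ K).hom.app (op U) p
  let snd' : ∀ {U : C}, (K ⨯ K).obj.obj (op U) → K.obj.obj (op U) := fun {U} p => (prod.snd : K ⨯ K ⟶ K).hom.app (op U) p
  let Sub : Finset I → Subfunctor (K ⨯ K).obj := fun T =>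
    { obj := fun U => {p | P T U.unop (fst' p) (snd' p)}
      map := fun {U V} g p hp => by
        change P T V.unop (fst' ((K ⨯ K).obj.map g p)) (snd' ((K ⨯ K).obj.map g p))
        simp only [fst', snd', NatTrans.naturality_apply]
        exact hres T g.unop _ _ hp }
  let L : Finset I → Sheaf J (Type u) := fun T => (presheafToSheaf J (Type u)).obj (Sub T).toFunctor
  let f : ∀ T, L T ⟶ K ⨯ K := fun T =>
    ((sheafificationAdjunction J (Type u)).homEquiv (Sub T).toFunctor (K ⨯ K)).symm (Sub T).ι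
  have hf : ∀ T, toSheafify J (Sub T).toFunctor ≫ (f T).hom = (Sub T).ι := fun T =>
    Equiv.apply_symm_apply ((sheafificationAdjunction J (Type u)).homEquiv (Sub T).toFunctor (K ⨯ K)) (Sub T).ι
  have hfe : ∀ T {V : C} (z : (Sub T).toFunctor.obj (op V)),
      (f T).hom.app (op V) ((toSheafify J (Sub T).toFunctor).app (op V) z) = z.1 := fun T V z =>
    ConcreteCategory.congr_hom (congrArg (fun τ : (Sub T).toFunctor ⟶ (K ⨯ K).obj => τ.app (op V)) (hf T)) z
  have hJS : CohCx.JointlySurjective f := fun U s => by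
    obtain ⟨R, hR, hR'⟩ := hloc U (fst' s) (snd' s)
    refine ⟨R, hR, fun V g hg => ?_⟩
    obtain ⟨T, hT⟩ := hR' g hg
    have hz : (K ⨯ K).obj.map g.op s ∈ (Sub T).obj (op V) := by
      change P T V _ _
      simp only [fst', snd', NatTrans.naturality_apply]
      exact hT
    exact ⟨T, (toSheafify J (Sub T).toFunctor).app (op V) ⟨_, hz⟩, hfe T ⟨_, hz⟩⟩
  obtain ⟨t, ht⟩ := hSb K hKS (Finset I) L f hJS
  classical
  refine ⟨t.sup id, fun U x y => ?_⟩
  let e : ((E U).obj (K ⨯ K)) ≅ ((E U).obj K ⨯ (E U).obj K) := PreservesLimitPair.iso (E U) K K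
  let p : (K ⨯ K).obj.obj (op U) := e.inv ((Types.binaryProductIso _ _).inv (x, y))
  have hx : fst' p = x := by
    have h1 : e.inv ≫ (E U).map prod.fst = prod.fst := PreservesLimitPair.iso_inv_fst (E U) K K
    exact (ConcreteCategory.congr_hom h1 _).trans
      (Types.binaryProductIso_inv_comp_fst_apply (K.obj.obj (op U)) (K.obj.obj (op U)) (x, y))
  have hy : snd' p = y := by
    have h1 : e.inv ≫ (E U).map prod.snd = prod.snd := PreservesLimitPair.iso_inv_snd (E U) K K
    exact (ConcreteCategory.congr_hom h1 _).trans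
      (Types.binaryProductIso_inv_comp_snd_apply (K.obj.obj (op U)) (K.obj.obj (op U)) (x, y))
  obtain ⟨R, hR, hR'⟩ := ht U p
  refine Loc.bind (Loc.of_mem hR) fun V g hg => ?_
  obtain ⟨⟨T, hT⟩, z, hz⟩ := hR' V g hg
  refine (Loc.of_mem (Presheaf.imageSieve_mem J (toSheafify J (Sub T).toFunctor) z)).mono ?_
  rintro W w ⟨z', hz'⟩
  have e2 : z'.1 = (K ⨯ K).obj.map (w ≫ g).op p := by
    rw [← hfe T z', hz']
    refine (NatTrans.naturality_apply (f T).hom w.op z).trans ?_
    rw [hz]
    exact ((K ⨯ K).obj.map_comp_apply g.op w.op p).symm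
  have e3 : P T W (fst' z'.1) (snd' z'.1) := z'.2
  rw [e2] at e3
  simp only [fst', snd', NatTrans.naturality_apply] at e3
  rw [show (prod.fst : K ⨯ K ⟶ K).hom.app (op U) p = x from hx, show (prod.snd : K ⨯ K ⟶ K).hom.app (op U) p = y from hy] at e3
  exact hmono _ _ (Finset.le_sup (f := id) hT) _ _ _ e3

/-- the refinement property on a space -/
theorem qcRefines_of_space {X : TopCat.{u}}
    (hX : ∀ (ι : Type u) (V : ι → TopologicalSpace.Opens X), iSup V = ⊤ → ∃ (Jt : Type u) (_ : Finite Jt)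
      (U : Jt → TopologicalSpace.Opens X), iSup U = ⊤ ∧ (∀ j, ∃ i, U j ≤ V i) ∧
        ∀ j j', IsCompact ((U j ⊓ U j' : TopologicalSpace.Opens X) : Set X)) :
    QCRefines (Opens.grothendieckTopology X) := by
  intro F hF
  obtain ⟨Jt, hJt, U, hU, hUV, hc⟩ := hX {V : TopologicalSpace.Opens X // Nonempty (F.obj.obj (op V))} (fun i => i.1)
    (TopologicalSpace.Opens.ext (Set.eq_univ_of_forall fun x => by
      obtain ⟨R, hR, hR'⟩ := hF ⊤
      obtain ⟨V, g, hg, hxV⟩ := hR x trivial
      exact TopologicalSpace.Opens.mem_iSup.2 ⟨⟨V, hR' g hg⟩, hxV⟩))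
  let K : (TopologicalSpace.Opens X)ᵒᵖ ⥤ Type u :=
    { obj := fun W => {j : Jt // W.unop ≤ U j}
      map := fun g => ↾fun j => ⟨j.1, g.unop.le.trans j.2⟩
      map_id := fun W => rfl
      map_comp := fun g h => rfl }
  refine ⟨K, fun W => ?_, ?_, ?_⟩
  · refine ⟨Sieve.generate (Presieve.ofArrows (fun j => W ⊓ U j) fun j => homOfLE inf_le_left), ?_, ?_⟩
    · intro x hx
      obtain ⟨j, hj⟩ := TopologicalSpace.Opens.mem_iSup.1 (show x ∈ iSup U from hU ▸ trivial)
      exact ⟨W ⊓ U j, homOfLE inf_le_left, Sieve.le_generate _ _ _ (Presieve.ofArrows.mk j), ⟨hx, hj⟩⟩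
    · rintro V g ⟨Z, a, b, ⟨j⟩, -⟩
      exact ⟨⟨j, a.le.trans inf_le_right⟩⟩
  · intro I P hmono hres hloc
    classical
    have fin : ∀ j j' : Jt, ∃ T : Finset I, ∀ x ∈ U j ⊓ U j', ∃ (V : TopologicalSpace.Opens X) (hV : V ≤ U j ⊓ U j'),
        x ∈ V ∧ P T V ⟨j, hV.trans inf_le_left⟩ ⟨j', hV.trans inf_le_right⟩ := by
      intro j j'
      obtain ⟨R, hR, hR'⟩ := hloc (U j ⊓ U j') ⟨j, inf_le_left⟩ ⟨j', inf_le_right⟩
      have : ∀ x : {x // x ∈ U j ⊓ U j'}, ∃ (V : TopologicalSpace.Opens X) (hV : V ≤ U j ⊓ U j'), x.1 ∈ V ∧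
          ∃ T, P T V ⟨j, hV.trans inf_le_left⟩ ⟨j', hV.trans inf_le_right⟩ := fun x => by
        obtain ⟨V, g, hg, hxV⟩ := hR x.1 x.2
        exact ⟨V, g.le, hxV, hR' g hg⟩
      choose V hV hxV T hT using this
      obtain ⟨t, ht⟩ := (hc j j').elim_finite_subcover (fun x => (V x : Set X)) (fun x => (V x).2)
        fun x hx => Set.mem_iUnion.2 ⟨⟨x, hx⟩, hxV _⟩
      refine ⟨t.sup T, fun x hx => ?_⟩
      obtain ⟨i, hi, hxi⟩ := Set.mem_iUnion₂.1 (ht hx)
      exact ⟨V i, hV i, hxi, hmono _ _ (Finset.le_sup hi) _ _ _ (hT i)⟩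
    choose T hT using fin
    haveI := Fintype.ofFinite Jt
    refine ⟨Finset.univ.sup fun jj : Jt × Jt => T jj.1 jj.2, fun W a b => ?_⟩
    refine ⟨⟨fun V g => P (Finset.univ.sup fun jj : Jt × Jt => T jj.1 jj.2) V (K.map g.op a) (K.map g.op b),
      fun {V V'} g hg h => hres _ h _ _ hg⟩, fun x hx => ?_, fun V g hg => hg⟩
    obtain ⟨V, hV, hxV, hP⟩ := hT a.1 b.1 x ⟨a.2 hx, b.2 hx⟩
    refine ⟨W ⊓ V, homOfLE inf_le_left, ?_, ⟨hx, hxV⟩⟩
    exact hmono _ _ (Finset.le_sup (f := fun jj : Jt × Jt => T jj.1 jj.2) (Finset.mem_univ (a.1, b.1))) _ _ _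
      (hres _ (homOfLE inf_le_right : W ⊓ V ⟶ V) _ _ hP)
  · choose i hi using hUV
    let s : ∀ j, F.obj.obj (op (U j)) := fun j => F.obj.map (homOfLE (hi j)).op (i j).2.some
    refine ⟨{ app := fun W => ↾fun j => F.obj.map (homOfLE j.2 : W.unop ⟶ U j.1).op (s j.1), naturality := fun W W' g => ?_ }⟩
    ext j
    exact F.obj.map_comp_apply (homOfLE j.2 : W.unop ⟶ U j.1).op g (s j.1)

end Groth.Agent.HomColim
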