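import Groth.Agent.PullFlat.Tensor
import Groth.Agent.ModSiteTensor.Colimit
import Mathlib.Algebra.Category.ModuleCat.Presheaf.Colimits
import Mathlib.CategoryTheory.Limits.Types.Filtered

/-!
Sections of filtered colimits of modules on a ringed site, locally.
-/

set_option backward.isDefEq.respectTransparency false
set_option backward.isDefEq.respectTransparency.types false
set_option linter.style.haveILetI false
set_option autoImplicit false
set_option maxHeartbeats 1000000

universe u

namespace Groth.Agent.HomColim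

open CategoryTheory Limits Opposite
open Groth.Agent.PullFlat (Loc sect_ext sect_glue)
open Groth.Agent.ModSiteFlat (rmap)

variable {C : Type u} [SmallCategory C] {J : GrothendieckTopology C} {O : Sheaf J CommRingCat.{u}}
  {Λ : Type u} [SmallCategory Λ] [IsFiltered Λ] {D : Λ ⥤ ModSite.Mod O}

/-- the comparison from the colimit of presheaves -/
lemma exists_colim_cmp (c : Cocone D) (hc : IsColimit c) :
    ∃ (c' : Cocone (D ⋙ ModSiteExt.toPM O)) (_ : IsColimit c') (θ : c'.pt ⟶ c.pt.val),
      (∀ j, c'.ι.app j ≫ θ = (c.ι.app j).val) ∧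
        Presheaf.IsLocallyInjective J ((PresheafOfModules.toPresheaf _).map θ) ∧
        Presheaf.IsLocallySurjective J ((PresheafOfModules.toPresheaf _).map θ) := by
  let c' := colimit.cocone (D ⋙ ModSiteExt.toPM O)
  let adj := PresheafOfModules.sheafificationAdjunction.{u} (R := ModSite.ringSh O) (𝟙 (ModSite.ringSh O).obj)
  haveI : PreservesColimitsOfSize.{u, u} (ModSiteExt.Sh O) := adj.leftAdjoint_preservesColimits
  let w : (D ⋙ ModSiteExt.toPM O) ⋙ ModSiteExt.Sh O ≅ D :=
    NatIso.ofComponents (fun j => @asIso _ _ _ _ (adj.counit.app (D.obj j)) inferInstance)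
      fun f => adj.counit.naturality (D.map f)
  let e : (ModSiteExt.Sh O).obj c'.pt ≅ c.pt :=
    (isColimitOfPreserves (ModSiteExt.Sh O) (colimit.isColimit _)).coconePointsIsoOfNatIso hc w
  refine ⟨c', colimit.isColimit _, ModSiteTensor.η O c'.pt ≫ (ModSiteExt.toPM O).map e.hom, fun j => ?_, ?_, ?_⟩
  · have h1 : (ModSiteExt.Sh O).map (c'.ι.app j) ≫ e.hom = adj.counit.app (D.obj j) ≫ c.ι.app j :=
      IsColimit.comp_coconePointsIsoOfNatIso_hom (isColimitOfPreserves (ModSiteExt.Sh O) (colimit.isColimit _)) hc w j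
    have h2 : c'.ι.app j ≫ ModSiteTensor.η O c'.pt =
        ModSiteTensor.η O ((ModSiteExt.toPM O).obj (D.obj j)) ≫ (ModSiteExt.toPM O).map ((ModSiteExt.Sh O).map (c'.ι.app j)) :=
      adj.unit.naturality (c'.ι.app j)
    rw [← Category.assoc, h2, Category.assoc, ← Functor.map_comp, h1, Functor.map_comp, ← Category.assoc]
    have h3 : ModSiteTensor.η O ((ModSiteExt.toPM O).obj (D.obj j)) ≫ (ModSiteExt.toPM O).map (adj.counit.app (D.obj j)) = 𝟙 _ :=
      adj.right_triangle_components (D.obj j)
    exact (congrArg (· ≫ _) h3).trans (Category.id_comp _)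
  · haveI := ModSiteTensor.unit_locallyInjective O c'.pt
    rw [Functor.map_comp]
    infer_instance
  · haveI := ModSiteTensor.unit_locallySurjective O c'.pt
    rw [Functor.map_comp]
    infer_instance

lemma pm_jointly_surjective (c' : Cocone (D ⋙ ModSiteExt.toPM O)) (hc' : IsColimit c') (U : C)
    (x : c'.pt.obj (op U)) : ∃ (j : Λ) (t : ((ModSiteExt.toPM O).obj (D.obj j)).obj (op U)), (c'.ι.app j).app (op U) t = x := by
  have h := isColimitOfPreserves (PresheafOfModules.evaluation (ModSite.ringSh O).obj (op U) ⋙ forget (ModuleCat.{u} _)) hc'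
  obtain ⟨j, t, ht⟩ := Types.jointly_surjective_of_isColimit h x
  exact ⟨j, t, ht⟩

lemma pm_eq_iff (c' : Cocone (D ⋙ ModSiteExt.toPM O)) (hc' : IsColimit c') (U : C) (j : Λ)
    (t t' : ((ModSiteExt.toPM O).obj (D.obj j)).obj (op U)) (h : (c'.ι.app j).app (op U) t = (c'.ι.app j).app (op U) t') :
    ∃ (k : Λ) (a : j ⟶ k), ((D.map a).val.app (op U)) t = ((D.map a).val.app (op U)) t' := by
  have hl := isColimitOfPreserves (PresheafOfModules.evaluation (ModSite.ringSh O).obj (op U) ⋙ forget (ModuleCat.{u} _)) hc'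
  exact (Types.FilteredColimit.isColimit_eq_iff' hl t t').1 h

/-- sections of a colimit come locally from a stage -/
theorem loc_surj_colim (c : Cocone D) (hc : IsColimit c) {U : C} (s : ModSite.sect c.pt U) :
    Loc J U fun V g => ∃ (j : Λ) (t : ModSite.sect (D.obj j) V), (c.ι.app j).val.app (op V) t = rmap c.pt g s := by
  obtain ⟨c', hc', θ, hθ, h₁, h₂⟩ := exists_colim_cmp c hc
  refine (Loc.of_mem (Presheaf.imageSieve_mem J ((PresheafOfModules.toPresheaf _).map θ) s)).mono ?_
  rintro V g ⟨x, hx⟩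
  obtain ⟨j, t, rfl⟩ := pm_jointly_surjective c' hc' V x
  refine ⟨j, t, Eq.trans ?_ hx⟩
  rw [← hθ]
  rfl

/-- sections equal in a colimit are locally equal at a stage -/
theorem loc_inj_colim (c : Cocone D) (hc : IsColimit c) {U : C} {j : Λ} (t t' : ModSite.sect (D.obj j) U)
    (h : (c.ι.app j).val.app (op U) t = (c.ι.app j).val.app (op U) t') :
    Loc J U fun V g => ∃ (k : Λ) (a : j ⟶ k),
      (D.map a).val.app (op V) (rmap (D.obj j) g t) = (D.map a).val.app (op V) (rmap (D.obj j) g t') := by
  obtain ⟨c', hc', θ, hθ, h₁, h₂⟩ := exists_colim_cmp c hc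
  rw [← hθ] at h
  refine (Loc.of_mem (Presheaf.equalizerSieve_mem J ((PresheafOfModules.toPresheaf _).map θ)
    (X := op U) ((c'.ι.app j).app (op U) t) ((c'.ι.app j).app (op U) t') h)).mono ?_
  intro V g hg
  refine pm_eq_iff c' hc' V j _ _ ?_
  exact (PresheafOfModules.naturality_apply (c'.ι.app j) g.op t).trans
    (Eq.trans hg (PresheafOfModules.naturality_apply (c'.ι.app j) g.op t').symm)

end Groth.Agent.HomColim
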