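import Mathlib.CategoryTheory.Adjunction.Mates
import Mathlib.CategoryTheory.Adjunction.Unique
import Mathlib.CategoryTheory.Abelian.GrothendieckAxioms.Basic
import Mathlib.CategoryTheory.Limits.Preserves.Limits
import Mathlib.CategoryTheory.Limits.Shapes.Biproducts
import Mathlib.CategoryTheory.Limits.Preserves.Shapes.Kernels
import Mathlib.CategoryTheory.Limits.FunctorCategory.Basic

/-!
Right adjoints attached to cokernels and to finite coproducts keep colimits with exact colimit functors.
-/

set_option backward.isDefEq.respectTransparency false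
set_option backward.isDefEq.respectTransparency.types false
set_option linter.style.haveILetI false
set_option autoImplicit false
universe v u w

namespace Groth.Agent.HomColim

open CategoryTheory Limits

variable {A : Type u} [Category.{v} A] [Abelian A] {Λ : Type w} [Category.{w} Λ] [HasColimitsOfShape Λ A]

/-- transposing along conjugate adjunctions -/
lemma homEquiv_conjugate {L₁ L₂ R₁ R₂ : A ⥤ A} (a₁ : L₁ ⊣ R₁) (a₂ : L₂ ⊣ R₂) (γ : L₂ ⟶ L₁) {P H : A}
    (u : P ⟶ R₁.obj H) :
    (a₂.homEquiv P H).symm (u ≫ (conjugateEquiv a₁ a₂ γ).app H) = γ.app P ≫ (a₁.homEquiv P H).symm u := by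
  simp only [Adjunction.homEquiv_counit, Functor.map_comp, Category.assoc, conjugateEquiv_counit]
  rw [← Category.assoc, γ.naturality, Category.assoc]

section Cokernel

variable {L₁ L₀ LX R₁ R₀ RX : A ⥤ A} (a₁ : L₁ ⊣ R₁) (a₀ : L₀ ⊣ R₀) (aX : LX ⊣ RX)
  (r : L₁ ⟶ L₀) (p : L₀ ⟶ LX) (w : ∀ P, r.app P ≫ p.app P = 0)
  (hc : ∀ P, IsColimit (CokernelCofork.ofπ (p.app P) (w P)))

include hc in
lemma mono_conjugate (H : A) : Mono ((conjugateEquiv aX a₀ p).app H) := by
  refine ⟨fun {P} u u' h => (aX.homEquiv P H).symm.injective ?_⟩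
  haveI : Epi (p.app P) := Cofork.IsColimit.epi (hc P)
  rw [← cancel_epi (p.app P), ← homEquiv_conjugate aX a₀ p, ← homEquiv_conjugate aX a₀ p, h]

include w in
lemma conjugate_comp_zero [L₁.PreservesZeroMorphisms] (H : A) : (conjugateEquiv aX a₀ p).app H ≫ (conjugateEquiv a₀ a₁ r).app H = 0 := by
  refine (a₁.homEquiv _ H).symm.injective ?_
  rw [homEquiv_conjugate]
  rw [show (a₀.homEquiv (RX.obj H) H).symm ((conjugateEquiv aX a₀ p).app H) = p.app _ ≫ (aX.homEquiv _ H).symm (𝟙 _) by
    rw [← homEquiv_conjugate, Category.id_comp]]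
  rw [← Category.assoc, w, zero_comp, Adjunction.homEquiv_counit, Functor.map_zero, zero_comp]

include hc in
lemma exists_lift [L₁.PreservesZeroMorphisms] (H : A) {P : A} (u : P ⟶ R₀.obj H) (hu : u ≫ (conjugateEquiv a₀ a₁ r).app H = 0) :
    ∃ v : P ⟶ RX.obj H, v ≫ (conjugateEquiv aX a₀ p).app H = u := by
  have h : r.app P ≫ (a₀.homEquiv P H).symm u = 0 := by
    rw [← homEquiv_conjugate a₀ a₁ r, hu, Adjunction.homEquiv_counit, Functor.map_zero, zero_comp]
  obtain ⟨t, ht⟩ := CokernelCofork.IsColimit.desc' (hc P) _ h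
  have ht' : p.app P ≫ t = (a₀.homEquiv P H).symm u := ht
  refine ⟨aX.homEquiv P H t, (a₀.homEquiv P H).symm.injective ?_⟩
  rw [homEquiv_conjugate, Equiv.symm_apply_apply, ht']

variable [HasExactColimitsOfShape Λ A] (D : Λ ⥤ A)

include a₁ a₀ aX hc in
/-- the right adjoint of a cokernel keeps the colimit -/
theorem preservesColimit_of_cokernel [L₁.PreservesZeroMorphisms] [PreservesColimit D R₁] [PreservesColimit D R₀] :
    PreservesColimit D RX := by
  let α : R₀ ⟶ R₁ := conjugateEquiv a₀ a₁ r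
  let β : RX ⟶ R₀ := conjugateEquiv aX a₀ p
  haveI hm : ∀ H, Mono (β.app H) := mono_conjugate a₀ aX r p w hc
  have hz : ∀ H, β.app H ≫ α.app H = 0 := conjugate_comp_zero a₁ a₀ aX r p w
  let S : ShortComplex (Λ ⥤ A) := ShortComplex.mk (Functor.whiskerLeft D β) (Functor.whiskerLeft D α)
    (NatTrans.ext (funext fun j => hz _))
  haveI : Mono S.f := @NatTrans.mono_of_mono_app _ _ _ _ _ _ _ fun j => hm _
  have hS : IsLimit (KernelFork.ofι S.f S.zero) := by
    refine evaluationJointlyReflectsLimits _ fun j => ?_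
    refine (KernelFork.isLimitMapConeEquiv _ _).symm ?_
    exact KernelFork.IsLimit.ofι (f := α.app (D.obj j)) (β.app (D.obj j)) (hz _)
      (fun u hu => (exists_lift a₁ a₀ aX r p w hc (D.obj j) u hu).choose)
      (fun u hu => (exists_lift a₁ a₀ aX r p w hc (D.obj j) u hu).choose_spec)
      fun u hu m hm' => by
        haveI := hm (D.obj j)
        rw [← cancel_mono (β.app (D.obj j)), (exists_lift a₁ a₀ aX r p w hc (D.obj j) u hu).choose_spec]
        exact hm'
  haveI : PreservesFiniteLimits (colim : (Λ ⥤ A) ⥤ A) := HasExactColimitsOfShape.preservesFiniteLimits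
  have hK := KernelFork.mapIsLimit (KernelFork.ofι S.f S.zero) hS (colim : (Λ ⥤ A) ⥤ A)
  let θ := colimit.post D RX
  let θ₀ := colimit.post D R₀
  let θ₁ := colimit.post D R₁
  have sq : colimMap (Functor.whiskerLeft D β) ≫ θ₀ = θ ≫ β.app (colimit D) := by
    refine colimit.hom_ext fun j => ?_
    rw [ι_colimMap_assoc, colimit.ι_post, colimit.ι_post_assoc]
    exact (β.naturality (colimit.ι D j)).symm
  have sq' : colimMap (Functor.whiskerLeft D α) ≫ θ₁ = θ₀ ≫ α.app (colimit D) := by
    refine colimit.hom_ext fun j => ?_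
    rw [ι_colimMap_assoc, colimit.ι_post, colimit.ι_post_assoc]
    exact (α.naturality (colimit.ι D j)).symm
  haveI : Mono ((colim : (Λ ⥤ A) ⥤ A).map S.f) := inferInstance
  haveI : IsIso θ₀ := inferInstanceAs (IsIso (colimit.post D R₀))
  haveI : IsIso θ₁ := inferInstanceAs (IsIso (colimit.post D R₁))
  haveI : Mono θ := by
    haveI : Mono (colimMap (Functor.whiskerLeft D β)) := inferInstanceAs (Mono ((colim : (Λ ⥤ A) ⥤ A).map S.f))
    haveI : Mono (θ ≫ β.app (colimit D)) := sq ▸ inferInstance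
    exact mono_of_mono θ (β.app (colimit D))
  have h0 : (β.app (colimit D) ≫ inv θ₀) ≫ colimMap (Functor.whiskerLeft D α) = 0 := by
    rw [← cancel_mono θ₁, zero_comp, Category.assoc, Category.assoc, sq', IsIso.inv_hom_id_assoc]
    exact hz _
  obtain ⟨k, hk⟩ := KernelFork.IsLimit.lift' hK _ h0
  have hk' : k ≫ colimMap (Functor.whiskerLeft D β) = β.app (colimit D) ≫ inv θ₀ := hk
  haveI := hm (colimit D)
  have h1 : k ≫ θ = 𝟙 _ := by
    rw [← cancel_mono (β.app (colimit D)), Category.assoc, ← sq, reassoc_of% hk', IsIso.inv_hom_id,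
      Category.comp_id, Category.id_comp]
  haveI : IsIso θ := ⟨k, by rw [← cancel_mono θ, Category.assoc, h1, Category.comp_id, Category.id_comp], h1⟩
  exact preservesColimit_of_isIso_post (F := D) (G := RX)

end Cokernel

section Coproduct

variable (B : Type w) [Finite B] [HasColimitsOfShape (Discrete B) A] [HasLimitsOfShape (Discrete B) A]

/-- the right adjoint of a finite sum of copies of the identity keeps all colimits -/
theorem preservesColimit_of_sum {LX RX : A ⥤ A} (aX : LX ⊣ RX)
    (e : (Functor.const (Discrete B) : A ⥤ _) ⋙ colim ≅ LX) (D : Λ ⥤ A) : PreservesColimit D RX := by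
  let a : (Functor.const (Discrete B) : A ⥤ _) ⋙ colim ⊣ (Functor.const (Discrete B) : A ⥤ _) ⋙ lim :=
    constLimAdj.comp colimConstAdj
  haveI : HasFiniteBiproducts A := Abelian.hasFiniteBiproducts
  haveI : HasBiproductsOfShape B A := inferInstance
  let a' : (Functor.const (Discrete B) : A ⥤ _) ⋙ colim ⊣ RX := aX.ofNatIsoLeft e.symm
  let e' : (Functor.const (Discrete B) : A ⥤ _) ⋙ colim ≅ RX :=
    Functor.isoWhiskerLeft _ HasBiproductsOfShape.colimIsoLim ≪≫ Adjunction.rightAdjointUniq a a'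
  haveI : ((Functor.const (Discrete B) : A ⥤ _) ⋙ colim).IsLeftAdjoint := a.isLeftAdjoint
  exact preservesColimit_of_natIso D e'

end Coproduct

end Groth.Agent.HomColim
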