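import Groth.Agent.HomColim.Sections
import Mathlib.CategoryTheory.Filtered.Basic

/-!
Global sections commute with filtered colimits when coverings can be refined by quasi-compact ones
with quasi-compact self-products.
-/

set_option backward.isDefEq.respectTransparency false
set_option backward.isDefEq.respectTransparency.types false
set_option linter.style.haveILetI false
set_option autoImplicit false
set_option maxHeartbeats 1000000

universe u

namespace Groth.Agent.HomColim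

open CategoryTheory Limits Opposite
open Groth.Agent.PullFlat (Loc sect_ext sect_glue)
open Groth.Agent.ModSiteFlat (rmap rmap_comp)

variable {C : Type u} [SmallCategory C] (J : GrothendieckTopology C)

/-- quasi-compactness of pairs of sections, phrased with increasing predicates -/
def QCPairs (K : Cᵒᵖ ⥤ Type u) : Prop :=
  ∀ (I : Type u) (P : Finset I → ∀ U : C, K.obj (op U) → K.obj (op U) → Prop),
    (∀ T T', T ⊆ T' → ∀ U x y, P T U x y → P T' U x y) →
    (∀ T {U V : C} (g : V ⟶ U) x y, P T U x y → P T V (K.map g.op x) (K.map g.op y)) →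
    (∀ U x y, Loc J U fun V g => ∃ T, P T V (K.map g.op x) (K.map g.op y)) →
    ∃ T, ∀ U x y, Loc J U fun V g => P T V (K.map g.op x) (K.map g.op y)

/-- coverings can be refined by quasi-compact ones -/
def QCRefines : Prop :=
  ∀ F : Sheaf J (Type u), (∀ U : C, Loc J U fun V _ => Nonempty (F.obj.obj (op V))) →
    ∃ K : Cᵒᵖ ⥤ Type u, (∀ U : C, Loc J U fun V _ => Nonempty (K.obj (op V))) ∧ QCPairs J K ∧ Nonempty (K ⟶ F.obj)

variable {J} {O : Sheaf J CommRingCat.{u}} {Λ : Type u} [SmallCategory Λ] [IsFiltered Λ] {D : Λ ⥤ ModSite.Mod O}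

lemma map_comp_app {i j k : Λ} (a : i ⟶ j) (b : j ⟶ k) {U : C} (t : ModSite.sect (D.obj i) U) :
    (D.map (a ≫ b)).val.app (op U) t = (D.map b).val.app (op U) ((D.map a).val.app (op U) t) := by
  rw [D.map_comp]
  rfl

lemma ι_app_map (c : Cocone D) {i j : Λ} (a : i ⟶ j) {U : C} (t : ModSite.sect (D.obj i) U) :
    (c.ι.app j).val.app (op U) ((D.map a).val.app (op U) t) = (c.ι.app i).val.app (op U) t := by
  rw [← c.w a]
  rfl

lemma app_rmap {M N : ModSite.Mod O} (φ : M ⟶ N) {U V : C} (g : V ⟶ U) (t : ModSite.sect M U) :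
    φ.val.app (op V) (rmap M g t) = rmap N g (φ.val.app (op U) t) :=
  PresheafOfModules.naturality_apply φ.val g.op t

/-- one stage for finitely many arrows out of one object -/
lemma exists_coequalize {j : Λ} (T : Finset (Σ k : Λ, j ⟶ k)) :
    ∃ (m : Λ) (h : j ⟶ m), ∀ f ∈ T, ∃ b : f.1 ⟶ m, f.2 ≫ b = h := by
  classical
  induction T using Finset.induction with
  | empty => exact ⟨j, 𝟙 j, fun f hf => absurd hf (Finset.notMem_empty f)⟩
  | @insert e T _ ih =>
    obtain ⟨m, h, hT⟩ := ih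
    obtain ⟨m', a, b, hab⟩ := IsFiltered.span e.2 h
    refine ⟨m', h ≫ b, fun f hf => ?_⟩
    rcases Finset.mem_insert.1 hf with rfl | hf
    · exact ⟨a, hab⟩
    · obtain ⟨b', hb'⟩ := hT f hf
      exact ⟨b' ≫ b, by rw [← Category.assoc, hb']⟩

section Inj

variable (hQ : QCRefines J) (c : Cocone D) (hc : IsColimit c)

include hQ hc in
/-- equality in the colimit of two global sections holds at a stage -/
theorem global_inj {j : Λ} (σ τ : ∀ U : C, ModSite.sect (D.obj j) U)
    (hσ : ∀ {U V : C} (g : V ⟶ U), rmap _ g (σ U) = σ V) (hτ : ∀ {U V : C} (g : V ⟶ U), rmap _ g (τ U) = τ V)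
    (h : ∀ U, (c.ι.app j).val.app (op U) (σ U) = (c.ι.app j).val.app (op U) (τ U)) :
    ∃ (k : Λ) (a : j ⟶ k), ∀ U, (D.map a).val.app (op U) (σ U) = (D.map a).val.app (op U) (τ U) := by
  let pt : Sheaf J (Type u) := ⟨(Functor.const Cᵒᵖ).obj PUnit, Presheaf.isSheaf_of_isTerminal J Types.isTerminalPunit⟩
  obtain ⟨K, hK, hqc, -⟩ := hQ pt fun U => Loc.of_forall fun V _ => ⟨PUnit.unit⟩
  let P : Finset (Σ k : Λ, j ⟶ k) → ∀ U : C, K.obj (op U) → K.obj (op U) → Prop := fun T U _ _ =>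
    ∃ f ∈ T, (D.map f.2).val.app (op U) (σ U) = (D.map f.2).val.app (op U) (τ U)
  obtain ⟨T, hT⟩ := hqc _ P (fun T T' hTT U x y ⟨f, hf, e⟩ => ⟨f, hTT hf, e⟩)
    (fun T U V g x y ⟨f, hf, e⟩ => ⟨f, hf, by rw [← hσ g, ← hτ g, app_rmap, app_rmap, e]⟩)
    fun U x y => by
      refine (loc_inj_colim c hc (σ U) (τ U) (h U)).mono ?_
      rintro V g ⟨k, a, hka⟩
      rw [hσ, hτ] at hka
      exact ⟨{⟨k, a⟩}, ⟨k, a⟩, Finset.mem_singleton_self _, hka⟩
  obtain ⟨m, e, he⟩ := exists_coequalize T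
  refine ⟨m, e, fun U => sect_ext ((hK U).bind ?_)⟩
  rintro V g ⟨x⟩
  refine (hT V x x).mono ?_
  rintro W g' ⟨f, hf, hfe⟩
  obtain ⟨b, hb⟩ := he f hf
  rw [← app_rmap, ← app_rmap, hσ, hτ, ← hb, map_comp_app, map_comp_app, hfe]

end Inj

section Surj

variable (c : Cocone D) (σ : ∀ U : C, ModSite.sect c.pt U)

/-- local lifts of a global section to stages -/
noncomputable def Lifts (hσ : ∀ {U V : C} (g : V ⟶ U), rmap _ g (σ U) = σ V) : Cᵒᵖ ⥤ Type u where
  obj U := Σ j : Λ, {t : ModSite.sect (D.obj j) U.unop // (c.ι.app j).val.app (op U.unop) t = σ U.unop}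
  map {U V} g := ↾fun p => ⟨p.1, rmap _ g.unop p.2.1,
    (app_rmap _ _ _).trans ((congrArg _ p.2.2).trans (hσ g.unop))⟩
  map_id U := by
    apply ConcreteCategory.hom_ext
    rintro ⟨j, t, ht⟩
    refine Sigma.ext rfl (heq_of_eq ?_)
    apply Subtype.ext
    exact ConcreteCategory.congr_hom ((D.obj j).val.presheaf.map_id U) t
  map_comp {U V W} g h := by
    apply ConcreteCategory.hom_ext
    rintro ⟨j, t, ht⟩
    refine Sigma.ext rfl (heq_of_eq ?_)
    apply Subtype.ext
    exact rmap_comp (D.obj j) g.unop h.unop t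

variable (hQ : QCRefines J) (hc : IsColimit c)

include hQ hc in
/-- a global section of the colimit comes from a stage -/
theorem global_surj (hσ : ∀ {U V : C} (g : V ⟶ U), rmap _ g (σ U) = σ V) :
    ∃ (k : Λ) (τ : ∀ U : C, ModSite.sect (D.obj k) U), (∀ {U V : C} (g : V ⟶ U), rmap _ g (τ U) = τ V) ∧
      ∀ U, (c.ι.app k).val.app (op U) (τ U) = σ U := by
  classical
  let T := Lifts c σ hσ
  let η := toSheafify J T
  haveI : Presheaf.IsLocallyInjective J η := GrothendieckTopology.W.isLocallyInjective (J.W_toSheafify T)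
  haveI : Presheaf.IsLocallySurjective J η := GrothendieckTopology.W.isLocallySurjective (J.W_toSheafify T)
  obtain ⟨K, hK, hqc, ⟨u⟩⟩ := hQ ((presheafToSheaf J (Type u)).obj T) fun U => by
    refine (loc_surj_colim c hc (σ U)).mono ?_
    rintro V g ⟨j, t, ht⟩
    exact ⟨η.app (op V) ⟨j, t, ht.trans (hσ g)⟩⟩
  -- a finite set of stages
  let P : Finset Λ → ∀ U : C, K.obj (op U) → K.obj (op U) → Prop := fun S U x _ =>
    ∃ p : T.obj (op U), p.1 ∈ S ∧ η.app (op U) p = u.app (op U) x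
  have hun : ∀ {U V : C} (g : V ⟶ U) (x : K.obj (op U)),
      u.app (op V) (K.map g.op x) = (sheafify J T).map g.op (u.app (op U) x) := fun g x =>
    NatTrans.naturality_apply u g.op x
  have hηn : ∀ {U V : C} (g : V ⟶ U) (p : T.obj (op U)),
      η.app (op V) (T.map g.op p) = (sheafify J T).map g.op (η.app (op U) p) := fun g p =>
    NatTrans.naturality_apply η g.op p
  obtain ⟨S, hS⟩ := hqc _ P (fun S S' hSS U x y ⟨p, hp, e⟩ => ⟨p, hSS hp, e⟩)
    (fun S U V g x y ⟨p, hp, e⟩ => ⟨T.map g.op p, hp, by rw [hηn, e, hun]⟩)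
    fun U x y => by
      refine (Loc.of_mem (Presheaf.imageSieve_mem J η (u.app (op U) x))).mono ?_
      rintro V g ⟨p, hp⟩
      exact ⟨{p.1}, p, Finset.mem_singleton_self _, hp.trans (hun g x).symm⟩
  obtain ⟨k, hk⟩ := IsFiltered.sup_objs_exists S
  have a : ∀ j ∈ S, j ⟶ k := fun j hj => (hk hj).some
  -- values
  let val : ∀ {U : C}, T.obj (op U) → ModSite.sect (D.obj k) U → Prop := fun {U} p s =>
    ∃ h : p.1 ∈ S, (D.map (a p.1 h)).val.app (op U) p.2.1 = s
  let Val : ∀ {U : C}, K.obj (op U) → ModSite.sect (D.obj k) U → Prop := fun {U} x s =>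
    ∀ {V : C} (g : V ⟶ U) (p : T.obj (op V)) (h : p.1 ∈ S), η.app (op V) p = u.app (op V) (K.map g.op x) →
      rmap _ g s = (D.map (a p.1 h)).val.app (op V) p.2.1
  have indep : ∀ {V : C} (p q : T.obj (op V)) (hp : p.1 ∈ S) (hq : q.1 ∈ S), η.app (op V) p = η.app (op V) q →
      (D.map (a p.1 hp)).val.app (op V) p.2.1 = (D.map (a q.1 hq)).val.app (op V) q.2.1 := by
    intro V p q hp hq e
    refine sect_ext ((Loc.of_mem (Presheaf.equalizerSieve_mem J η (X := op V) p q e)).mono ?_)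
    intro W g hg
    obtain ⟨j, t, ht⟩ := p
    obtain ⟨i, t', ht'⟩ := q
    have hji : j = i := congrArg Sigma.fst (hg : T.map g.op ⟨j, t, ht⟩ = T.map g.op ⟨i, t', ht'⟩)
    subst hji
    have htt : rmap (D.obj j) g t = rmap (D.obj j) g t' :=
      congrArg Subtype.val (eq_of_heq (Sigma.mk.inj_iff.1 (hg : T.map g.op ⟨j, t, ht⟩ = T.map g.op ⟨j, t', ht'⟩)).2)
    rw [← app_rmap, ← app_rmap, htt]
  have exVal : ∀ {U : C} (x : K.obj (op U)), ∃ s, Val x s := by
    intro U x
    obtain ⟨R, hR, hR'⟩ := hS U x x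
    choose p hp hpx using hR'
    obtain ⟨s, hs⟩ := sect_glue (G := D.obj k) hR (fun V g hg => (D.map (a _ (hp g hg))).val.app (op V) (p g hg).2.1)
      fun V W g hg w => by
        rw [← app_rmap]
        exact indep (T.map w.op (p g hg)) _ (hp g hg) _ (by
          rw [hηn, hpx, ← hun, hpx]
          exact congrArg _ (K.map_comp_apply g.op w.op x).symm)
    refine ⟨s, fun {V} g q hq e => sect_ext ?_⟩
    refine (Loc.of_mem (J.pullback_stable g hR)).mono fun W w hw => ?_
    rw [← rmap_comp, hs _ hw, ← app_rmap]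
    exact indep _ (T.map w.op q) _ hq (by
      rw [hpx, hηn, e, ← hun]
      exact congrArg _ (K.map_comp_apply g.op w.op x))
  choose v hv using @exVal
  have hvn : ∀ {U V : C} (g : V ⟶ U) (x : K.obj (op U)), rmap _ g (v x) = v (K.map g.op x) := by
    intro U V g x
    refine sect_ext ((hS V (K.map g.op x) (K.map g.op x)).mono ?_)
    rintro W w ⟨p, hp, e⟩
    rw [← rmap_comp, hv x (w ≫ g) p hp (by rw [e]; exact congrArg _ (K.map_comp_apply g.op w.op x).symm),
      hv _ w p hp e]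
  have hvc : ∀ {U : C} (x : K.obj (op U)), (c.ι.app k).val.app (op U) (v x) = σ U := by
    intro U x
    refine sect_ext ((hS U x x).mono ?_)
    rintro W w ⟨p, hp, e⟩
    rw [← app_rmap, hv x w p hp e, ι_app_map, p.2.2]
    exact (hσ w).symm
  -- agreement at a later stage
  let Q : Finset (Σ m : Λ, k ⟶ m) → ∀ U : C, K.obj (op U) → K.obj (op U) → Prop := fun T U x y =>
    ∃ f ∈ T, (D.map f.2).val.app (op U) (v x) = (D.map f.2).val.app (op U) (v y)
  obtain ⟨T', hT'⟩ := hqc _ Q (fun T T' hTT U x y ⟨f, hf, e⟩ => ⟨f, hTT hf, e⟩)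
    (fun T U V g x y ⟨f, hf, e⟩ => ⟨f, hf, by rw [← hvn g, ← hvn g, app_rmap, app_rmap, e]⟩)
    fun U x y => by
      refine (loc_inj_colim c hc (v x) (v y) ((hvc x).trans (hvc y).symm)).mono ?_
      rintro V g ⟨m, b, hmb⟩
      rw [hvn, hvn] at hmb
      exact ⟨{⟨m, b⟩}, ⟨m, b⟩, Finset.mem_singleton_self _, hmb⟩
  obtain ⟨m, b, hb⟩ := exists_coequalize T'
  have agree : ∀ {U : C} (x y : K.obj (op U)), (D.map b).val.app (op U) (v x) = (D.map b).val.app (op U) (v y) := by
    intro U x y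
    refine sect_ext ((hT' U x y).mono ?_)
    rintro W w ⟨f, hf, e⟩
    obtain ⟨b', hb'⟩ := hb f hf
    rw [← app_rmap, ← app_rmap, hvn, hvn, ← hb', map_comp_app, map_comp_app, e]
  have exG : ∀ U : C, ∃ s : ModSite.sect (D.obj m) U, ∀ {V : C} (g : V ⟶ U) (x : K.obj (op V)),
      rmap _ g s = (D.map b).val.app (op V) (v x) := by
    intro U
    obtain ⟨R, hR, hR'⟩ := hK U
    choose x hx using fun V (g : V ⟶ U) (hg : R g) => (⟨(hR' g hg).some, trivial⟩ : ∃ x : K.obj (op V), True)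
    obtain ⟨s, hs⟩ := sect_glue (G := D.obj m) hR (fun V g hg => (D.map b).val.app (op V) (v (x V g hg)))
      fun V W g hg w => by rw [← app_rmap, hvn]; exact agree _ _
    refine ⟨s, fun {V} g y => sect_ext ?_⟩
    refine (Loc.of_mem (J.pullback_stable g hR)).mono fun W w hw => ?_
    rw [← rmap_comp, hs _ hw, ← app_rmap, hvn]
    exact agree _ _
  choose τ hτ using exG
  refine ⟨m, τ, fun {U V} g => sect_ext ((hK V).mono ?_), fun U => sect_ext ((hK U).mono ?_)⟩
  · rintro W w ⟨x⟩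
    rw [← rmap_comp, hτ U (w ≫ g) x, hτ V w x]
  · rintro W w ⟨x⟩
    rw [← app_rmap, hτ U w x, ι_app_map, hvc]
    exact (hσ w).symm

end Surj

end Groth.Agent.HomColim
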